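import Cfsg.Agent.H441.RG.CentT3_m3
import Cfsg.Agent.H675.RG.K1A_m3
import Cfsg.Agent.Prune
set_option linter.all false
prune_inst 0x7f00000000000000000000000000000000000000000000000000000000000000000000000000000000000000000000000000000000000000000000000000000000000000000000000000000000000000003fffffffffffffffffffffffffffbeffbdffffffff

/-!
# S3509, R2: `NineInput` (helper808)
-/

set_option autoImplicit false
set_option linter.unusedSectionVars false
open Cfsg

namespace Cfsg.Agent.H808.R2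

open CoxeterSystem Cfsg Cfsg.Lie Cfsg.Lie.ChevalleyDatum
open Cfsg.Agent.ChevalleyStructure Cfsg.Agent.ChevalleyStructure.Elts Cfsg.Agent.ChevalleyStructure.CoxeterGeom
  Cfsg.Agent.ChevalleyStructure.CoxeterGeomTypes Cfsg.Agent.ChevalleyStructure.NPerm
open Cfsg.Agent.Tits.Roots Cfsg.Agent.Tits.Core Cfsg.Agent.Nodes Cfsg.Agent.Nodes.Reps Cfsg.Agent.Nodes.RGDChev
open Cfsg.Agent.H469.Exc Cfsg.Agent.H316.U6 Cfsg.Agent.H169.RG
open Cfsg.Agent.H873.RG Cfsg.Agent.H607.R2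

variable {M : CoxeterMatrix (Fin 6)} {hp : IsType chevE6 6 M} {r q : ℕ} [hr : Fact r.Prime] {K₀ : Type} [Group K₀]

theorem k1Input (m : MData hp r q K₀) (hF : H327.RG.Fr m.ι m.σ) (hrd : ¬ r ∣ m.dd) : K1Input m :=
  fun _ hy3 hy1 _ f h1 h2 => (Cfsg.Agent.H675.RG.k1 m hF hrd hy3 hy1 f h1 h2).imp fun _ h => h.1

/-- **The torus with `1 ± θ³ + θ⁶ = 0`.** -/
theorem nineInput [Finite K₀] (m : MData hp r q K₀) (hF : H327.RG.Fr m.ι m.σ) (hIH : IHx (Nat.card K₀))
    (hQ : MinQ K₀ q) (hrd : ¬ r ∣ m.dd) : NineInput m :=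
  nineInput_k1 m hF hIH hQ (k1Input m hF hrd)

end Cfsg.Agent.H808.R2
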